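import Cfsg.Agent.H2.Pol.Defs
import Cfsg.Agent.H950.Count

/-!
# S4829, polar spaces: the valency of the relation "orthogonal and disjoint" on `X_d`, `d = ord_p(q)` (helper556)

`not_dvd_rel` : if `p ∤ |X_{2d}|` then `p` does not divide the number of `W ∈ X_d` with `U ⊓ W = ⊥`, `W ≤ U^⊥`.
-/

set_option autoImplicit false

namespace Cfsg.Agent.H556.CY

open Module Cfsg.Agent.H2.Pol

/-- `p` does not divide the number of `d`-subspaces of a `2d`-space -/
theorem not_dvd_subspaces {F V : Type*} [Field F] [Fintype F] [AddCommGroup V] [Module F V] [FiniteDimensional F V]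
    {p : ℕ} [hp : Fact p.Prime] (hp2 : p ≠ 2) {d : ℕ} (hd : orderOf ((Fintype.card F : ℕ) : ZMod p) = d) (hd1 : 1 ≤ d)
    (hV : finrank F V = 2 * d) : ¬ p ∣ Nat.card {U : Submodule F V // finrank F U = d} := by
  intro h
  have hq1 : 1 < Fintype.card F := Fintype.one_lt_card
  set q := Fintype.card F with hq
  have h1 := H950.card_subspaces_eq (F := F) (V := V) (q := q) hV (k := d) (by omega) rfl
  obtain ⟨e, rfl⟩ : ∃ e, d = e + 1 := ⟨d - 1, by omega⟩
  rw [Fin.prod_univ_succ, Fin.prod_univ_succ] at h1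
  simp only [Fin.val_zero, Nat.sub_zero, Fin.val_succ] at h1
  have h2 : q ^ (2 * (e + 1)) - 1 = (q ^ (e + 1) - 1) * (q ^ (e + 1) + 1) := by
    have h3 : q ^ (2 * (e + 1)) = q ^ (e + 1) * q ^ (e + 1) := by rw [← pow_add]; congr 1; ring
    have h4 : 1 ≤ q ^ (e + 1) := Nat.one_le_pow _ _ (by omega)
    obtain ⟨x, hx⟩ := Nat.exists_eq_add_of_le h4
    rw [h3, hx]
    have h5 : (1 + x) * (1 + x) - 1 = x * (1 + x + 1) := by
      have : (1 + x) * (1 + x) = x * (1 + x + 1) + 1 := by ring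
      omega
    rw [h5, Nat.add_sub_cancel_left]
  rw [h2] at h1
  have hpos : 0 < q ^ (e + 1) - 1 := Nat.sub_pos_of_lt (Nat.one_lt_pow (Nat.succ_ne_zero e) hq1)
  have h3 : Nat.card {U : Submodule F V // finrank F U = e + 1} * ∏ i : Fin e, (q ^ (e + 1 - (i.val + 1)) - 1) =
      (q ^ (e + 1) + 1) * ∏ i : Fin e, (q ^ (2 * (e + 1) - (i.val + 1)) - 1) := by
    apply Nat.eq_of_mul_eq_mul_left hpos
    calc _ = Nat.card {U : Submodule F V // finrank F U = e + 1} *
          ((q ^ (e + 1) - 1) * ∏ i : Fin e, (q ^ (e + 1 - (i.val + 1)) - 1)) := by ring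
      _ = _ := h1
      _ = _ := by ring
  have h4 : p ∣ (q ^ (e + 1) + 1) * ∏ i : Fin e, (q ^ (2 * (e + 1) - (i.val + 1)) - 1) := by
    rw [← h3]
    exact h.mul_right _
  rcases hp.out.dvd_mul.1 h4 with h5 | h5
  · have h6 : ((q ^ (e + 1) + 1 : ℕ) : ZMod p) = 0 := (ZMod.natCast_eq_zero_iff _ _).2 h5
    push_cast at h6
    have h7 : ((q : ℕ) : ZMod p) ^ (e + 1) = 1 := by rw [← hd]; exact pow_orderOf_eq_one _
    rw [h7] at h6
    have h8 : ((2 : ℕ) : ZMod p) = 0 := by push_cast; linear_combination h6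
    have h9 := (ZMod.natCast_eq_zero_iff 2 p).1 h8
    exact hp2 ((Nat.prime_dvd_prime_iff_eq hp.out Nat.prime_two).1 h9)
  · rw [hp.out.prime.dvd_finsetProd_iff] at h5
    obtain ⟨i, -, hi⟩ := h5
    rw [H950.dvd_pow_sub_one_iff (by omega), hd] at hi
    have h6 : e + 1 ∣ i.val + 1 := by
      have h7 : e + 1 ∣ 2 * (e + 1) := dvd_mul_left _ _
      have h8 := Nat.dvd_sub h7 hi
      have h9 : 2 * (e + 1) - (2 * (e + 1) - (i.val + 1)) = i.val + 1 := by omega
      rwa [h9] at h8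
    have h7 := Nat.le_of_dvd (Nat.succ_pos _) h6
    omega

variable {F V : Type*} [Field F] [Finite F] [AddCommGroup V] [Module F V] [FiniteDimensional F V] (Φ : Pol F V)

/-- the pairs -/
def Pr (d : ℕ) : Type _ := {P : Φ.X d × Φ.X d // P.1.1 ⊓ P.2.1 = ⊥ ∧ Φ.Orth P.1.1 P.2.1}

omit [Finite F] in
theorem finrank_sup_of_inf {U W : Submodule F V} (h : U ⊓ W = ⊥) :
    finrank F (U ⊔ W : Submodule F V) = finrank F U + finrank F W := by
  have h1 := Submodule.finrank_sup_add_finrank_inf_eq U W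
  rw [h, finrank_bot, add_zero] at h1
  exact h1

/-- the span of a pair -/
def Pr.span {Φ : Pol F V} {d : ℕ} (P : Pr Φ d) : Φ.X (2 * d) :=
  ⟨P.1.1.1 ⊔ P.1.2.1, P.1.1.2.1.sup P.1.2.2.1 P.2.2, by
    rw [finrank_sup_of_inf P.2.1, P.1.1.2.2, P.1.2.2.2, two_mul]⟩

/-- the fibre over `Y` -/
noncomputable def fibreEquiv {d : ℕ} (Y : Φ.X (2 * d)) : {P : Pr Φ d // P.span = Y} ≃
    {P : Submodule F Y.1 × Submodule F Y.1 // IsCompl P.1 P.2 ∧ finrank F P.1 = d} where
  toFun P := ⟨(P.1.1.1.1.comap Y.1.subtype, P.1.1.2.1.comap Y.1.subtype), by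
    have hY : P.1.1.1.1 ⊔ P.1.1.2.1 = Y.1 := congrArg Subtype.val P.2
    have h1 : P.1.1.1.1 ≤ Y.1 := hY ▸ le_sup_left
    have h2 : P.1.1.2.1 ≤ Y.1 := hY ▸ le_sup_right
    refine ⟨⟨?_, ?_⟩, ?_⟩
    · rw [disjoint_iff]
      change Submodule.comap Y.1.subtype P.1.1.1.1 ⊓ Submodule.comap Y.1.subtype P.1.1.2.1 = ⊥
      rw [← Submodule.comap_inf, P.1.2.1, Submodule.comap_bot, Submodule.ker_subtype]
    · rw [codisjoint_iff]
      change Submodule.comap Y.1.subtype P.1.1.1.1 ⊔ Submodule.comap Y.1.subtype P.1.1.2.1 = ⊤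
      apply Submodule.map_injective_of_injective (Submodule.subtype_injective Y.1)
      rw [Submodule.map_sup, Submodule.map_comap_subtype, Submodule.map_comap_subtype, Submodule.map_subtype_top,
        inf_eq_right.2 h1, inf_eq_right.2 h2, hY]
    · change finrank F ↥(Submodule.comap Y.1.subtype P.1.1.1.1) = d
      rw [(Submodule.comapSubtypeEquivOfLe h1).finrank_eq, P.1.1.1.2.2]⟩
  invFun P := ⟨⟨(⟨P.1.1.map Y.1.subtype, Y.2.1.mono (Submodule.map_subtype_le _ _), by
      rw [← (Submodule.equivMapOfInjective _ (Submodule.subtype_injective Y.1) P.1.1).finrank_eq, P.2.2]⟩,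
      ⟨P.1.2.map Y.1.subtype, Y.2.1.mono (Submodule.map_subtype_le _ _), by
      rw [← (Submodule.equivMapOfInjective _ (Submodule.subtype_injective Y.1) P.1.2).finrank_eq]
      have h1 := Submodule.finrank_add_eq_of_isCompl P.2.1
      rw [P.2.2, Y.2.2] at h1
      omega⟩), by
      constructor
      · change Submodule.map Y.1.subtype P.1.1 ⊓ Submodule.map Y.1.subtype P.1.2 = ⊥
        rw [← Submodule.map_inf _ (Submodule.subtype_injective Y.1), P.2.1.inf_eq_bot, Submodule.map_bot]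
      · exact Y.2.1.orth.mono (Submodule.map_subtype_le _ _) (Submodule.map_subtype_le _ _)⟩, by
      apply Subtype.ext
      change Submodule.map Y.1.subtype P.1.1 ⊔ Submodule.map Y.1.subtype P.1.2 = Y.1
      rw [← Submodule.map_sup, P.2.1.sup_eq_top, Submodule.map_subtype_top]⟩
  left_inv P := by
    have hY : P.1.1.1.1 ⊔ P.1.1.2.1 = Y.1 := congrArg Subtype.val P.2
    have h1 : P.1.1.1.1 ≤ Y.1 := hY ▸ le_sup_left
    have h2 : P.1.1.2.1 ≤ Y.1 := hY ▸ le_sup_right
    apply Subtype.ext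
    apply Subtype.ext
    apply Prod.ext
    · apply Subtype.ext
      exact (Submodule.map_comap_subtype _ _).trans (inf_eq_right.2 h1)
    · apply Subtype.ext
      exact (Submodule.map_comap_subtype _ _).trans (inf_eq_right.2 h2)
  right_inv P := by
    apply Subtype.ext
    apply Prod.ext
    · exact Submodule.comap_map_eq_of_injective (Submodule.subtype_injective _) _
    · exact Submodule.comap_map_eq_of_injective (Submodule.subtype_injective _) _

/-- **the valency is prime to `p`** -/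
theorem not_dvd_rel {p : ℕ} [hp : Fact p.Prime] (hp2 : p ≠ 2) (hpq : ¬ p ∣ Nat.card F) {d : ℕ}
    (hd : orderOf ((Nat.card F : ℕ) : ZMod p) = d) (hd1 : 1 ≤ d) (h2 : ¬ p ∣ Nat.card (Φ.X (2 * d))) {n : ℕ}
    (hn : ∀ U : Φ.X d, Nat.card {W : Φ.X d // U.1 ⊓ W.1 = ⊥ ∧ Φ.Orth U.1 W.1} = n) : ¬ p ∣ n := by
  classical
  have iF := Fintype.ofFinite F
  have : Finite (Φ.X d) := inferInstance
  have hfin : Finite (Pr Φ d) := Subtype.finite
  have iX := Fintype.ofFinite (Φ.X d)
  have iX2 := Fintype.ofFinite (Φ.X (2 * d))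
  -- first count
  have e1 : Pr Φ d ≃ (Σ U : Φ.X d, {W : Φ.X d // U.1 ⊓ W.1 = ⊥ ∧ Φ.Orth U.1 W.1}) :=
    { toFun := fun P => ⟨P.1.1, ⟨P.1.2, P.2⟩⟩
      invFun := fun x => ⟨(x.1, x.2.1), x.2.2⟩
      left_inv := fun P => rfl
      right_inv := fun x => rfl }
  have c1 : Nat.card (Pr Φ d) = Nat.card (Φ.X d) * n := by
    rw [Nat.card_congr e1, Nat.card_sigma, Finset.sum_congr rfl (g := fun _ => n) (fun U _ => hn U), Finset.sum_const,
      smul_eq_mul, Finset.card_univ, ← Nat.card_eq_fintype_card]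
  -- the number of complementary pairs in a space of dimension 2 d
  have c2 : ∀ Y : Φ.X (2 * d), Nat.card {P : Pr Φ d // P.span = Y} =
      Nat.card {U : Submodule F (Fin (2 * d) → F) // finrank F U = d} * Nat.card F ^ (d * d) := by
    intro Y
    rw [Nat.card_congr (fibreEquiv Φ Y)]
    have i1 : Finite Y.1 := Module.finite_of_finite F
    have i2 : Finite (Submodule F Y.1) :=
      Finite.of_injective (fun U : Submodule F Y.1 => (U : Set Y.1)) SetLike.coe_injective
    have iS := Fintype.ofFinite {U : Submodule F Y.1 // finrank F U = d}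
    have e : {P : Submodule F Y.1 × Submodule F Y.1 // IsCompl P.1 P.2 ∧ finrank F P.1 = d}
        ≃ (Σ U : {U : Submodule F Y.1 // finrank F U = d}, {W : Submodule F Y.1 // IsCompl U.1 W}) :=
      { toFun := fun P => ⟨⟨P.1.1, P.2.2⟩, ⟨P.1.2, P.2.1⟩⟩
        invFun := fun x => ⟨(x.1.1, x.2.1), x.2.2, x.1.2⟩
        left_inv := fun P => rfl
        right_inv := fun x => rfl }
    rw [Nat.card_congr e, Nat.card_sigma, Finset.sum_congr rfl
      (g := fun _ => Nat.card F ^ (d * d))]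
    · rw [Finset.sum_const, smul_eq_mul, Finset.card_univ, ← Nat.card_eq_fintype_card]
      congr 1
      have e2 : Y.1 ≃ₗ[F] (Fin (2 * d) → F) := LinearEquiv.ofFinrankEq _ _ (by rw [Y.2.2, Module.finrank_fin_fun])
      exact Nat.card_congr
        { toFun := fun U => ⟨U.1.map e2.toLinearMap, by
            rw [LinearEquiv.finrank_map_eq]; exact U.2⟩
          invFun := fun U => ⟨U.1.map e2.symm.toLinearMap, by
            rw [LinearEquiv.finrank_map_eq]; exact U.2⟩
          left_inv := fun U => Subtype.ext (by simp [← Submodule.map_comp])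
          right_inv := fun U => Subtype.ext (by simp [← Submodule.map_comp]) }
    · rintro ⟨U, hU⟩ -
      rw [H950.card_compl, Y.2.2, hU, Nat.card_eq_fintype_card]
      congr 2
      omega
  have c3 : Nat.card (Pr Φ d) = Nat.card (Φ.X (2 * d)) *
      (Nat.card {U : Submodule F (Fin (2 * d) → F) // finrank F U = d} * Nat.card F ^ (d * d)) := by
    rw [← Nat.card_congr (Equiv.sigmaFiberEquiv (fun P : Pr Φ d => P.span)), Nat.card_sigma,
      Finset.sum_congr rfl (g := fun _ => Nat.card {U : Submodule F (Fin (2 * d) → F) // finrank F U = d} *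
        Nat.card F ^ (d * d)) (fun Y _ => c2 Y), Finset.sum_const, smul_eq_mul, Finset.card_univ,
      ← Nat.card_eq_fintype_card]
  intro hpn
  have h3 : p ∣ Nat.card (Φ.X (2 * d)) *
      (Nat.card {U : Submodule F (Fin (2 * d) → F) // finrank F U = d} * Nat.card F ^ (d * d)) := by
    rw [← c3, c1]
    exact hpn.mul_left _
  rcases hp.out.dvd_mul.1 h3 with h4 | h4
  · exact h2 h4
  rcases hp.out.dvd_mul.1 h4 with h4 | h4
  · rw [Nat.card_eq_fintype_card] at hd
    exact not_dvd_subspaces hp2 hd hd1 (Module.finrank_fin_fun F) h4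
  · exact hpq (hp.out.dvd_of_dvd_pow h4)

end Cfsg.Agent.H556.CY
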